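import Groth.Agent.AmpleEmb.Generated
import Groth.Agent.ProjBundleLib.FTQuot
import Groth.Agent.PullbackMod.Stalk
import Groth.Agent.GenBCLib.FlatBCQS
import Groth.Agent.GenBCLib.BcQCompat
import Groth.Agent.GenBCLib.Deg0
import Groth.Agent.EtAlgEasy.PrinPartFlat
import Groth.Agent.SiteBase.ModCoh

/-! # Faithfully flat descent of global generation -/

set_option autoImplicit false
set_option backward.isDefEq.respectTransparency false
set_option linter.style.haveILetI false

universe u

open CategoryTheory CategoryTheory.Limits AlgebraicGeometry TopologicalSpace Opposite TensorProduct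
open Groth.Agent.PullbackMod

noncomputable section

namespace Groth.Agent.GGDescLib

variable {X X' : Scheme.{u}} (g : X' ⟶ X) (M : X.Modules)

/-- The germ of a pulled back global section. -/
theorem germ_pullTop (x' : X') (σ : Γ(M, ⊤)) :
    ((Scheme.Modules.pullback g).obj M).presheaf.germ ⊤ x' trivial (pullMap g M (by simp) σ) =
      pullStalk g M x' (M.presheaf.germ ⊤ (g x') trivial σ) :=
  (pullStalk_germ' g M x' (W := ⊤) (W' := ⊤) trivial trivial (by simp) σ).symm

/-- Pullbacks of globally generated modules are globally generated. -/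
theorem isGloballyGenerated_pullback [Coh.IsQCoh M] (h : Curv2.IsGloballyGenerated M) :
    Curv2.IsGloballyGenerated ((Scheme.Modules.pullback g).obj M) := by
  refine AmpleEmb.isGloballyGenerated_of_span (fun σ : Γ(M, ⊤) => pullMap g M (by simp) σ) fun x' => ?_
  letI : Algebra (X.presheaf.stalk (g x')) (X'.presheaf.stalk x') := (g.stalkMap x').hom.toAlgebra
  letI := Module.compHom (((Scheme.Modules.pullback g).obj M).presheaf.stalk x') (g.stalkMap x').hom
  haveI : IsScalarTower (X.presheaf.stalk (g x')) (X'.presheaf.stalk x')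
      (((Scheme.Modules.pullback g).obj M).presheaf.stalk x') := .of_algebraMap_smul fun _ _ => rfl
  have hbc := isBaseChange_pullStalkL g M x'
  refine eq_top_iff.2 fun y hy => ?_
  clear hy
  obtain ⟨z, rfl⟩ := hbc.equiv.surjective y
  induction z using TensorProduct.induction_on with
  | zero => rw [map_zero]; exact zero_mem _
  | add a b ha hb => rw [map_add]; exact add_mem ha hb
  | tmul r m =>
    rw [IsBaseChange.equiv_tmul]
    refine Submodule.smul_mem _ _ ?_
    have hm : m ∈ Submodule.span (X.presheaf.stalk (g x'))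
        (Set.range fun σ : Γ(M, ⊤) => M.presheaf.germ ⊤ (g x') (Opens.mem_top _) σ) := by
      rw [ProjBundleLib.span_germ_of_isGloballyGenerated h]; trivial
    induction hm using Submodule.span_induction with
    | mem w hw =>
      obtain ⟨σ, rfl⟩ := hw
      exact Submodule.subset_span ⟨σ, germ_pullTop g M x' σ⟩
    | zero => rw [map_zero]; exact zero_mem _
    | add a b _ _ ha hb => rw [map_add]; exact add_mem ha hb
    | smul c a _ ha =>
      rw [map_smul, ← IsScalarTower.algebraMap_smul (X'.presheaf.stalk x') c]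
      exact Submodule.smul_mem _ _ ha

/-- Global generation descends along a faithfully flat map if pullbacks of global sections generate. -/
theorem isGloballyGenerated_of_pullback [Coh.IsQCoh M] [Flat g] [Surjective g]
    (h : ∀ x' : X', Submodule.span (X'.presheaf.stalk x') (Set.range fun σ : Γ(M, ⊤) =>
      ((Scheme.Modules.pullback g).obj M).presheaf.germ ⊤ x' trivial (pullMap g M (by simp) σ)) = ⊤) :
    Curv2.IsGloballyGenerated M := by
  refine AmpleEmb.isGloballyGenerated_of_span (fun σ : Γ(M, ⊤) => σ) fun x => ?_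
  obtain ⟨x', rfl⟩ := g.surjective x
  letI : Algebra (X.presheaf.stalk (g x')) (X'.presheaf.stalk x') := (g.stalkMap x').hom.toAlgebra
  letI := Module.compHom (((Scheme.Modules.pullback g).obj M).presheaf.stalk x') (g.stalkMap x').hom
  haveI : IsScalarTower (X.presheaf.stalk (g x')) (X'.presheaf.stalk x')
      (((Scheme.Modules.pullback g).obj M).presheaf.stalk x') := .of_algebraMap_smul fun _ _ => rfl
  haveI : Module.Flat (X.presheaf.stalk (g x')) (X'.presheaf.stalk x') := Flat.stalkMap g x'
  haveI : IsLocalHom (algebraMap (X.presheaf.stalk (g x')) (X'.presheaf.stalk x')) :=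
    inferInstanceAs (IsLocalHom (g.stalkMap x').hom)
  haveI : Module.FaithfullyFlat (X.presheaf.stalk (g x')) (X'.presheaf.stalk x') :=
    Module.FaithfullyFlat.of_flat_of_isLocalHom
  have hbc := isBaseChange_pullStalkL g M x'
  set N := Submodule.span (X.presheaf.stalk (g x'))
    (Set.range fun σ : Γ(M, ⊤) => M.presheaf.germ ⊤ (g x') trivial σ)
  have hsurj : Function.Surjective (LinearMap.lTensor (X'.presheaf.stalk x') N.subtype) := by
    intro z
    have hz : hbc.equiv z ∈ Submodule.span (X'.presheaf.stalk x') (Set.range fun σ : Γ(M, ⊤) =>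
      ((Scheme.Modules.pullback g).obj M).presheaf.germ ⊤ x' trivial (pullMap g M (by simp) σ)) := by
      rw [h x']; trivial
    suffices H : ∀ y ∈ Submodule.span (X'.presheaf.stalk x') (Set.range fun σ : Γ(M, ⊤) =>
      ((Scheme.Modules.pullback g).obj M).presheaf.germ ⊤ x' trivial (pullMap g M (by simp) σ)),
        ∃ w : X'.presheaf.stalk x' ⊗[X.presheaf.stalk (g x')] N,
          hbc.equiv (N.subtype.baseChange (X'.presheaf.stalk x') w) = y by
      obtain ⟨w, hw⟩ := H _ hz
      exact ⟨w, hbc.equiv.injective hw⟩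
    intro y hy
    induction hy using Submodule.span_induction with
    | mem w hw =>
      obtain ⟨σ, rfl⟩ := hw
      refine ⟨1 ⊗ₜ ⟨_, Submodule.subset_span ⟨σ, rfl⟩⟩, ?_⟩
      rw [LinearMap.baseChange_tmul, IsBaseChange.equiv_tmul, one_smul]
      exact (germ_pullTop g M x' σ).symm
    | zero => exact ⟨0, by rw [map_zero, map_zero]⟩
    | add a b _ _ ha hb =>
      obtain ⟨a', rfl⟩ := ha
      obtain ⟨b', rfl⟩ := hb
      exact ⟨a' + b', by rw [map_add, map_add]⟩
    | smul c a _ ha =>
      obtain ⟨a', rfl⟩ := ha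
      exact ⟨c • a', by rw [map_smul, map_smul]⟩
  have := (Module.FaithfullyFlat.lTensor_surjective_iff_surjective _ _ _).1 hsurj
  rw [← Submodule.range_subtype N]
  exact LinearMap.range_eq_top.2 this

/-- Flat base change in degree zero. -/
theorem isIso_bc0_of_flat {S S' : Scheme.{u}} {f : X ⟶ S} {u : S' ⟶ S} {f' : X' ⟶ S'}
    (h : IsPullback g f' f u) [QuasiCompact f] [QuasiSeparated f] [Flat u] [Coh.IsQCoh M] :
    IsIso (CohBC.bc0 f u f' g h.w M) := by
  haveI : Flat g := MorphismProperty.of_isPullback (P := @Flat) h.flip inferInstance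
  haveI := EtAlgEasy.PrinPartFlat.preservesFiniteLimits_pullback_of_flat g
  haveI : EnoughInjectives X.Modules := SiteBase.enoughInjectives_sheafOfModules _
  haveI : EnoughInjectives X'.Modules := SiteBase.enoughInjectives_sheafOfModules _
  obtain ⟨Δ, ⟨E⟩⟩ := GenBCLib.exists_sectCmp f
  obtain ⟨Δ', ⟨E'⟩⟩ := GenBCLib.exists_sectCmp f'
  haveI : IsIso (CohBC.bcQ f u f' g h.w 0 M) :=
    GenBCLib.isIso_of_compat h M 0 (E := E) (E' := E') (CohBC.bcQAdj f u f' g h.w 0 M)
      fun W x => GenBCLib.bcQAdj_eps f u f' g h.w E E' 0 M W x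
  have h1 : IsIso (CohBC.bc0 f u f' g h.w M ≫
      (Scheme.Modules.pushforward f').toRightDerivedZero.app ((Scheme.Modules.pullback g).obj M)) := by
    rw [← CohBC.bcQ_zero_compat]
    infer_instance
  exact IsIso.of_isIso_comp_right _
    ((Scheme.Modules.pushforward f').toRightDerivedZero.app ((Scheme.Modules.pullback g).obj M))

/-- Global sections of the base change are combinations of pulled back global sections. -/
theorem span_pullMap_eq_top {S S' : Scheme.{u}} [IsAffine S] [IsAffine S'] {f : X ⟶ S} {u : S' ⟶ S}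
    {f' : X' ⟶ S'} (h : IsPullback g f' f u) [QuasiCompact f] [QuasiSeparated f] [Flat u] [Coh.IsQCoh M] :
    Submodule.span Γ(X', ⊤) (Set.range fun σ : Γ(M, ⊤) => pullMap g M (W' := ⊤) (by simp) σ) = ⊤ := by
  haveI := isIso_bc0_of_flat g M h
  let N := (Scheme.Modules.pushforward f).obj M
  haveI : Coh.IsQCoh N := QCohLib.isQCoh_pushforward M f
  have he : (⊤ : S'.Opens) ≤ u ⁻¹ᵁ ⊤ := by simp
  letI : Algebra Γ(S, ⊤) Γ(S', ⊤) := (u.appLE ⊤ ⊤ he).hom.toAlgebra
  letI := Module.compHom Γ((Scheme.Modules.pullback u).obj N, ⊤) (u.appLE ⊤ ⊤ he).hom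
  haveI : IsScalarTower Γ(S, ⊤) Γ(S', ⊤) Γ((Scheme.Modules.pullback u).obj N, ⊤) :=
    .of_algebraMap_smul fun _ _ => rfl
  have hbc := isBaseChange_pullMapL u N (isAffineOpen_top S) (isAffineOpen_top S') he
  let φ := CohBC.bc0 f u f' g h.w M
  haveI : IsIso φ := ‹_›
  have hφ : Function.Surjective (φ.app ⊤) := fun y =>
    ⟨(inv φ).app ⊤ y, by
      rw [← ConcreteCategory.comp_apply, ← Scheme.Modules.Hom.comp_app, IsIso.inv_hom_id]
      rfl⟩
  refine eq_top_iff.2 fun y hy => ?_
  clear hy
  obtain ⟨w, rfl⟩ := hφ y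
  obtain ⟨z, rfl⟩ := hbc.equiv.surjective w
  induction z using TensorProduct.induction_on with
  | zero => rw [map_zero, map_zero]; exact zero_mem _
  | add a b ha hb => rw [map_add, map_add]; exact add_mem ha hb
  | tmul r m =>
    rw [IsBaseChange.equiv_tmul, Scheme.Modules.Hom.app_smul]
    show f'.appTop r • (show Γ((Scheme.Modules.pullback g).obj M, ⊤) from φ.app ⊤ (pullMap u N he m)) ∈ _
    refine Submodule.smul_mem _ _ (Submodule.subset_span ⟨m, ?_⟩)
    exact (GenBCLib.bc0_pullMap h.w M he (by simp) m).symm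

/-- Global generation of a quasi-coherent module descends along a faithfully flat base change. -/
theorem isGloballyGenerated_iff_baseChange {S S' : Scheme.{u}} [IsAffine S] [IsAffine S'] {f : X ⟶ S}
    {u : S' ⟶ S} {f' : X' ⟶ S'} (h : IsPullback g f' f u) [QuasiCompact f] [QuasiSeparated f] [Flat u]
    [Surjective u] [Coh.IsQCoh M] :
    Curv2.IsGloballyGenerated M ↔ Curv2.IsGloballyGenerated ((Scheme.Modules.pullback g).obj M) := by
  refine ⟨isGloballyGenerated_pullback g M, fun hg => ?_⟩
  haveI : Flat g := MorphismProperty.of_isPullback (P := @Flat) h.flip inferInstance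
  haveI : Surjective g := MorphismProperty.of_isPullback (P := @Surjective) h.flip inferInstance
  refine isGloballyGenerated_of_pullback g M fun x' => ?_
  refine eq_top_iff.2 ((ProjBundleLib.span_germ_of_isGloballyGenerated hg x').ge.trans (Submodule.span_le.2 ?_))
  rintro _ ⟨τ, rfl⟩
  have hτ : τ ∈ Submodule.span Γ(X', ⊤) (Set.range fun σ : Γ(M, ⊤) => pullMap g M (W' := ⊤) (by simp) σ) := by
    rw [span_pullMap_eq_top g M h]; trivial
  induction hτ using Submodule.span_induction with
  | mem w hw =>
    obtain ⟨σ, rfl⟩ := hw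
    exact Submodule.subset_span ⟨σ, rfl⟩
  | zero => simp only [map_zero]; exact zero_mem _
  | add a b _ _ ha hb => simp only [map_add]; exact add_mem ha hb
  | smul c a _ ha =>
    simp only [SetLike.mem_coe, ParaFLib.germ_smul']
    exact Submodule.smul_mem _ _ ha

end Groth.Agent.GGDescLib
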