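import Groth.Agent.GGDescLib.Main
import Groth.Agent.CubeLib.SeesawPoint
import Groth.Agent.CubeLib.Artin
import Groth.Agent.HomFibreLib.Cmp
import Groth.Agent.GenSeesawLib.Stein
import Groth.Agent.AmpleEmb.SectionsGe
import Groth.Agent.ProjUPLib.Exists

/-! # Triviality descends when the ring of global functions is semi-local -/

set_option autoImplicit false
set_option backward.isDefEq.respectTransparency false
set_option linter.style.haveILetI false

universe u

open CategoryTheory CategoryTheory.Limits AlgebraicGeometry TopologicalSpace Opposite TensorProduct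
open Groth.Agent.PullbackMod Groth.Agent.DCohLib Groth.Agent.ParaFLib Groth.Agent.AmpleLib

noncomputable section

namespace Groth.Agent.GGDescLib

/-- Elements picking one value at each maximal ideal combine to a unit. -/
theorem exists_isUnit_of_forall_maximal {R M N : Type*} [CommRing R] [AddCommGroup M] [Module R M]
    [AddCommGroup N] [Module R N] [Finite (MaximalSpectrum R)] (β : M →ₗ[R] N →ₗ[R] R)
    (h : ∀ m : MaximalSpectrum R, ∃ a b, β a b ∉ m.asIdeal) : ∃ a b, IsUnit (β a b) := by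
  classical
  have := Fintype.ofFinite (MaximalSpectrum R)
  choose a b hab using h
  have he : ∀ m : MaximalSpectrum R, ∃ e, e ∉ m.asIdeal ∧ ∀ m', m' ≠ m → e ∈ m'.asIdeal := fun m => by
    by_contra hcon
    push Not at hcon
    have hle : (Finset.univ.erase m).inf (fun m' : MaximalSpectrum R => m'.asIdeal) ≤ m.asIdeal := fun x hx => by
      by_contra hxm
      obtain ⟨m', hne, hm'⟩ := hcon x hxm
      exact hm' (Submodule.mem_finsetInf.1 hx m' (Finset.mem_erase.2 ⟨hne, Finset.mem_univ _⟩))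
    obtain ⟨m', hm', hle'⟩ := (Ideal.IsPrime.inf_le' m.isMaximal.isPrime).1 hle
    exact Finset.ne_of_mem_erase hm' (MaximalSpectrum.ext (m'.isMaximal.eq_of_le m.isMaximal.ne_top hle'))
  choose e he₁ he₂ using he
  refine ⟨∑ m, e m • a m, ∑ m, e m • b m, ?_⟩
  by_contra hu
  obtain ⟨q, hq, hmem⟩ := exists_max_ideal_of_mem_nonunits hu
  let m₀ : MaximalSpectrum R := ⟨q, hq⟩
  refine hab m₀ ?_
  have hz : ∀ m, m ≠ m₀ → Ideal.Quotient.mk q (e m) = 0 := fun m hm =>
    Ideal.Quotient.eq_zero_iff_mem.2 (he₂ m m₀ hm.symm)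
  have h1 : Ideal.Quotient.mk q (β (∑ m, e m • a m) (∑ m, e m • b m)) =
      Ideal.Quotient.mk q (e m₀ * (e m₀ * β (a m₀) (b m₀))) := by
    simp only [map_sum, map_smul, LinearMap.sum_apply, LinearMap.smul_apply, smul_eq_mul, map_mul,
      Finset.mul_sum]
    rw [Finset.sum_eq_single m₀ (fun m _ hm => Finset.sum_eq_zero fun m' _ => by rw [hz m hm]; simp)
      (fun hh => absurd (Finset.mem_univ _) hh), Finset.sum_eq_single m₀
      (fun m _ hm => by rw [hz m hm]; simp) (fun hh => absurd (Finset.mem_univ _) hh)]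
  rw [Ideal.Quotient.eq_zero_iff_mem.2 hmem] at h1
  have h2 := Ideal.Quotient.eq_zero_iff_mem.1 h1.symm
  exact (hq.isPrime.mem_or_mem ((hq.isPrime.mem_or_mem h2).resolve_left (he₁ m₀))).resolve_left (he₁ m₀)

variable {X X' : Scheme.{u}} (g : X' ⟶ X)

/-- An ideal of functions generating the unit ideal after a faithfully flat base change is trivial. -/
theorem ideal_eq_top_of_map {S S' : Scheme.{u}} [IsAffine S] [IsAffine S'] {f : X ⟶ S} {u : S' ⟶ S}
    {f' : X' ⟶ S'} (h : IsPullback g f' f u) [QuasiCompact f] [QuasiSeparated f] [Flat u] [Surjective u]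
    (I : Ideal Γ(X, ⊤)) (hI : I.map (g.appTop).hom = ⊤) : I = ⊤ := by
  haveI : Coh.IsQCoh (Coh.structureModule X) := InvExt.isQCoh_of_isInvertible (ParaFLib.isInvertible_structureModule (X := X))
  let O := Coh.structureModule X
  haveI := isIso_bc0_of_flat g O h
  let N := (Scheme.Modules.pushforward f).obj O
  haveI : Coh.IsQCoh N := QCohLib.isQCoh_pushforward O f
  have he : (⊤ : S'.Opens) ≤ u ⁻¹ᵁ ⊤ := by simp
  letI : Algebra Γ(S, ⊤) Γ(S', ⊤) := (u.appLE ⊤ ⊤ he).hom.toAlgebra
  haveI : Module.FaithfullyFlat Γ(S, ⊤) Γ(S', ⊤) := by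
    haveI : Module.Flat Γ(S, ⊤) Γ(S', ⊤) :=
      Flat.flat_appLE u (isAffineOpen_top S) (isAffineOpen_top S') he
    refine (RingHom.faithfullyFlat_algebraMap_iff).1 ?_
    rw [show algebraMap Γ(S, ⊤) Γ(S', ⊤) = u.appTop.hom from congrArg CommRingCat.Hom.hom
      (Scheme.Hom.app_eq_appLE u).symm]
    exact ((Flat.flat_and_surjective_iff_faithfullyFlat_of_isAffine u).1 ⟨inferInstance, inferInstance⟩)
  letI := Module.compHom Γ((Scheme.Modules.pullback u).obj N, ⊤) (u.appLE ⊤ ⊤ he).hom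
  haveI : IsScalarTower Γ(S, ⊤) Γ(S', ⊤) Γ((Scheme.Modules.pullback u).obj N, ⊤) :=
    .of_algebraMap_smul fun _ _ => rfl
  have hbc := isBaseChange_pullMapL u N (isAffineOpen_top S) (isAffineOpen_top S') he
  let φ := CohBC.bc0 f u f' g h.w O
  let θ : Γ(S', ⊤) ⊗[Γ(S, ⊤)] Γ(N, ⊤) →+ Γ(X', ⊤) :=
    ((AmpleLib.pullO g).hom.app ⊤).hom.comp ((φ.app ⊤).hom.comp hbc.equiv.toLinearMap.toAddMonoidHom)
  have hbij : Function.Bijective θ := by
    have b1 : Function.Bijective (φ.app ⊤) := by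
      haveI : IsIso φ := ‹_›
      exact ConcreteCategory.bijective_of_isIso _
    have b2 : Function.Bijective ((AmpleLib.pullO g).hom.app ⊤) := ConcreteCategory.bijective_of_isIso _
    exact b2.comp (b1.comp hbc.equiv.bijective)
  have hθ : ∀ (b : Γ(S', ⊤)) (r : Γ(X, ⊤)), θ (b ⊗ₜ (show Γ(N, ⊤) from r)) = f'.appTop b * g.appTop r := fun b r => by
    show (AmpleLib.pullO g).hom.app ⊤ (φ.app ⊤ (hbc.equiv (b ⊗ₜ (show Γ(N, ⊤) from r)))) = _
    rw [IsBaseChange.equiv_tmul, Scheme.Modules.Hom.app_smul]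
    show (AmpleLib.pullO g).hom.app ⊤ (f'.appTop b •
      (show Γ((Scheme.Modules.pullback g).obj O, ⊤) from φ.app ⊤ (pullMap u N he (show Γ(N, ⊤) from r)))) = _
    rw [show φ.app ⊤ (pullMap u N he (show Γ(N, ⊤) from r)) = pullMap g O le_rfl r from
      GenBCLib.bc0_pullMap h.w O he le_rfl r, Scheme.Modules.Hom.app_smul]
    refine (congrArg (fun z : Γ(X', ⊤) => f'.appTop b * z) (GenSeesawLib.pullO_pullMap g le_rfl r)).trans ?_
    show f'.appTop b * g.appLE ⊤ ⊤ le_top r = _
    rw [ProjUPLib.appLE_top_top]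
  let I' : Submodule Γ(S, ⊤) Γ(N, ⊤) :=
    { carrier := {x | (show Γ(X, ⊤) from x) ∈ I}
      add_mem' := fun ha hb => I.add_mem ha hb
      zero_mem' := I.zero_mem
      smul_mem' := fun c x hx => I.mul_mem_left _ hx }
  have hsurj : Function.Surjective (LinearMap.lTensor Γ(S', ⊤) I'.subtype) := by
    suffices H : ∀ y : Γ(X', ⊤), y ∈ I.map (g.appTop).hom →
        ∃ w : Γ(S', ⊤) ⊗[Γ(S, ⊤)] I', θ (LinearMap.lTensor Γ(S', ⊤) I'.subtype w) = y by
      intro z
      obtain ⟨w, hw⟩ := H (θ z) (by rw [hI]; trivial)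
      exact ⟨w, hbij.1 hw⟩
    intro y hy
    induction hy using Submodule.span_induction with
    | mem w hw =>
      obtain ⟨r, hr, rfl⟩ := hw
      refine ⟨1 ⊗ₜ ⟨r, hr⟩, ?_⟩
      rw [LinearMap.lTensor_tmul]
      refine (hθ 1 r).trans ?_
      rw [map_one, one_mul]
    | zero => exact ⟨0, by rw [map_zero, map_zero]⟩
    | add a b _ _ ha hb =>
      obtain ⟨a', rfl⟩ := ha
      obtain ⟨b', rfl⟩ := hb
      exact ⟨a' + b', by rw [map_add, map_add]⟩
    | smul c a hma ha =>
      obtain ⟨a', rfl⟩ := ha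
      clear hma
      obtain ⟨z, rfl⟩ := hbij.2 c
      rw [smul_eq_mul]
      induction z using TensorProduct.induction_on with
      | zero => exact ⟨0, by simp⟩
      | add p q hp hq =>
        obtain ⟨p', hp⟩ := hp
        obtain ⟨q', hq⟩ := hq
        exact ⟨p' + q', by rw [map_add, map_add, hp, hq, map_add θ p q, add_mul]⟩
      | tmul b r =>
        induction a' using TensorProduct.induction_on with
        | zero => exact ⟨0, by simp⟩
        | add p q hp hq =>
          obtain ⟨p', hp⟩ := hp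
          obtain ⟨q', hq⟩ := hq
          exact ⟨p' + q', by rw [map_add, map_add, hp, hq, map_add, map_add, mul_add]⟩
        | tmul b' i =>
          refine ⟨(b * b') ⊗ₜ ⟨(show Γ(X, ⊤) from r) * (show Γ(X, ⊤) from i.1), I.mul_mem_left _ i.2⟩, ?_⟩
          rw [LinearMap.lTensor_tmul, LinearMap.lTensor_tmul]
          show θ ((b * b') ⊗ₜ (show Γ(N, ⊤) from ((show Γ(X, ⊤) from r) * (show Γ(X, ⊤) from i.1)))) =
            θ (b ⊗ₜ r) * θ (b' ⊗ₜ i.1)
          rw [hθ, hθ b r, hθ b' i.1, map_mul, map_mul]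
          ring
  let one' : Γ(X, ⊤) := 1
  obtain ⟨⟨x, hx⟩, hx1⟩ :=
    (Module.FaithfullyFlat.lTensor_surjective_iff_surjective _ _ _).1 hsurj (show Γ(N, ⊤) from one')
  exact (Ideal.eq_top_iff_one I).2 (by have e : (show Γ(X, ⊤) from x) = one' := hx1; exact (congrArg (fun z : Γ(X, ⊤) => z ∈ I) e).mp hx)

/-- Triviality descends along a faithfully flat base change if the functions form a semi-local ring. -/
theorem triv_of_baseChange {S S' : Scheme.{u}} [IsAffine S] [IsAffine S'] {f : X ⟶ S} {u : S' ⟶ S}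
    {f' : X' ⟶ S'} (h : IsPullback g f' f u) [QuasiCompact f] [QuasiSeparated f] [Flat u] [Surjective u]
    [Finite (MaximalSpectrum Γ(X, ⊤))] {L : X.Modules} (hL : PicF.IsInvertible L)
    (hT : CubeLib.Triv ((Scheme.Modules.pullback g).obj L)) : CubeLib.Triv L := by
  obtain ⟨N, hN, ⟨e⟩⟩ := AmpleEmb.exists_isInverseOf hL
  haveI := InvExt.isQCoh_of_isInvertible hL
  haveI := InvExt.isQCoh_of_isInvertible hN
  let β : Γ(L, ⊤) →ₗ[Γ(X, ⊤)] Γ(N, ⊤) →ₗ[Γ(X, ⊤)] Γ(X, ⊤) :=
    LinearMap.mk₂ Γ(X, ⊤) (fun σ ν => (show Γ(X, ⊤) from e.hom.app ⊤ (pairS L N σ ν)))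
      (fun a b c => (congrArg (e.hom.app ⊤).hom (pairS_add_left a b c)).trans (map_add (e.hom.app ⊤).hom _ _))
      (fun r a c => (congrArg (e.hom.app ⊤).hom (pairS_smul_left r a c)).trans (Scheme.Modules.Hom.app_smul e.hom r _))
      (fun a b c => (congrArg (e.hom.app ⊤).hom (pairS_add_right a b c)).trans (map_add (e.hom.app ⊤).hom _ _))
      (fun r a c => (congrArg (e.hom.app ⊤).hom (pairS_smul_right r a c)).trans (Scheme.Modules.Hom.app_smul e.hom r _))
  let e' : CohB1.tensorMod ((Scheme.Modules.pullback g).obj L) ((Scheme.Modules.pullback g).obj N) ≅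
      Coh.structureModule X' :=
    (AmpleLib.pullTensor g L N).symm ≪≫ (Scheme.Modules.pullback g).mapIso e ≪≫ AmpleLib.pullO g
  have hcompat : ∀ σ ν, e'.hom.app ⊤ (pairS _ _ (pullMap g L (W' := ⊤) le_rfl σ) (pullMap g N (W' := ⊤) le_rfl ν)) =
      g.appTop (β σ ν) := fun σ ν => by
    refine (congrArg (e'.hom.app ⊤).hom (HomFibreLib.pullTensor_pullMap g L N σ ν).symm).trans ?_
    show (AmpleLib.pullO g).hom.app _ (((Scheme.Modules.pullback g).map e.hom).app _
      ((AmpleLib.pullTensor g L N).inv.app _ ((AmpleLib.pullTensor g L N).hom.app _ _))) = _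
    rw [← ConcreteCategory.comp_apply ((AmpleLib.pullTensor g L N).hom.app _), ← Scheme.Modules.Hom.comp_app,
      Iso.hom_inv_id]
    refine (congrArg ((AmpleLib.pullO g).hom.app _) (pullMap_natural g e.hom le_rfl (pairS L N σ ν))).trans ?_
    refine (GenSeesawLib.pullO_pullMap g le_rfl _).trans ?_
    show g.appLE ⊤ ⊤ le_top _ = _
    rw [ProjUPLib.appLE_top_top]
    rfl
  have hN' : CubeLib.Triv ((Scheme.Modules.pullback g).obj N) := by
    obtain ⟨eL⟩ := CubeLib.triv_iff.1 hT
    exact CubeLib.triv_iff.2 ⟨(AmpleLib.unitL _).symm ≪≫ AmpleLib.tIso eL.symm (Iso.refl _) ≪≫ e'⟩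
  obtain ⟨τ, hτ⟩ := hT
  obtain ⟨τ', hτ'⟩ := hN'
  let I : Ideal Γ(X, ⊤) := Ideal.span (Set.range fun p : Γ(L, ⊤) × Γ(N, ⊤) => β p.1 p.2)
  have hunit : IsUnit (show Γ(X', ⊤) from e'.hom.app ⊤ (pairS _ _ τ τ')) := by
    let φ := tensorS (DCohLib.secHom ((Scheme.Modules.pullback g).obj L) τ)
      (DCohLib.secHom ((Scheme.Modules.pullback g).obj N) τ') ≫ e'.hom
    have hsec : sec φ = (show Γ(X', ⊤) from e'.hom.app ⊤ (pairS _ _ τ τ')) := by
      show e'.hom.app ⊤ (sec (tensorS (DCohLib.secHom _ τ) (DCohLib.secHom _ τ'))) = _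
      rw [show sec (tensorS (DCohLib.secHom ((Scheme.Modules.pullback g).obj L) τ)
          (DCohLib.secHom ((Scheme.Modules.pullback g).obj N) τ')) =
          pairS _ _ (sec (secHom _ τ)) (sec (secHom _ τ')) from sec_secHom (L := tmod _ _) _, sec_secHom, sec_secHom]
    have key : X'.basicOpen (sec φ) = ⊤ := by
      rw [show X'.basicOpen (sec φ) = CohB1.genLocus _ φ from
        (AmpleEmb.genLocus_secHom_unit (sec φ)).symm.trans (congrArg (CohB1.genLocus _) (secHom_sec φ)),
        genLocus_comp_iso, genLocus_tensorS (AmpleLib.isInvertible_pullback g hL) (AmpleLib.isInvertible_pullback g hN),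
        ← top_le_iff]
      exact le_inf (ProjUPLib.le_gl (by simpa [resT, ParaFLib.res_self] using hτ))
        (ProjUPLib.le_gl (by simpa [resT, ParaFLib.res_self] using hτ'))
    rw [← hsec]
    refine X'.toRingedSpace.isUnit_of_isUnit_germ ⊤ _ fun x hx => ?_
    exact (X'.mem_basicOpen _ x hx).1 (key.ge hx)
  have hI : I.map (g.appTop).hom = ⊤ := by
    refine Ideal.eq_top_of_isUnit_mem _ ?_ hunit
    clear hunit hτ hτ'
    have h1 : τ ∈ Submodule.span Γ(X', ⊤) (Set.range fun σ : Γ(L, ⊤) => pullMap g L (W' := ⊤) le_rfl σ) := by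
      rw [span_pullMap_eq_top g L h]; trivial
    have h2 : τ' ∈ Submodule.span Γ(X', ⊤) (Set.range fun ν : Γ(N, ⊤) => pullMap g N (W' := ⊤) le_rfl ν) := by
      rw [span_pullMap_eq_top g N h]; trivial
    induction h1 using Submodule.span_induction with
    | mem a ha =>
      obtain ⟨σ, rfl⟩ := ha
      induction h2 using Submodule.span_induction with
      | mem b hb =>
        obtain ⟨ν, rfl⟩ := hb
        rw [hcompat]
        exact Ideal.mem_map_of_mem _ (Ideal.subset_span ⟨(σ, ν), rfl⟩)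
      | zero => rw [show pairS _ _ _ (0 : Γ((Scheme.Modules.pullback g).obj N, ⊤)) = 0 from by
          simpa using pairS_add_right (pullMap g L (W' := ⊤) le_rfl σ) (0 : Γ((Scheme.Modules.pullback g).obj N, ⊤)) 0, map_zero]; exact zero_mem _
      | add b b' _ _ hb hb' => rw [pairS_add_right, map_add]; exact add_mem hb hb'
      | smul c b _ hb =>
        rw [pairS_smul_right, Scheme.Modules.Hom.app_smul]
        exact Ideal.mul_mem_left _ _ hb
    | zero => rw [show pairS _ _ (0 : Γ((Scheme.Modules.pullback g).obj L, ⊤)) τ' = 0 from by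
          simpa using pairS_add_left (0 : Γ((Scheme.Modules.pullback g).obj L, ⊤)) 0 τ', map_zero]; exact zero_mem _
    | add a a' _ _ ha ha' => rw [pairS_add_left, map_add]; exact add_mem ha ha'
    | smul c a _ ha =>
      rw [pairS_smul_left, Scheme.Modules.Hom.app_smul]
      exact Ideal.mul_mem_left _ _ ha
  have hItop := ideal_eq_top_of_map g h I hI
  obtain ⟨σ, ν, hu⟩ := exists_isUnit_of_forall_maximal β fun m => by
    by_contra hcon
    push Not at hcon
    exact m.isMaximal.ne_top (top_le_iff.1 (hItop.ge.trans (Ideal.span_le.2 (by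
      rintro _ ⟨p, rfl⟩
      exact hcon p.1 p.2))))
  refine ⟨σ, ?_⟩
  let φ := tensorS (DCohLib.secHom L σ) (DCohLib.secHom N ν) ≫ e.hom
  have hsec : sec φ = (show Γ(X, ⊤) from β σ ν) := by
    show e.hom.app ⊤ (sec (tensorS (DCohLib.secHom L σ) (DCohLib.secHom N ν))) = _
    rw [show sec (tensorS (DCohLib.secHom L σ) (DCohLib.secHom N ν)) = pairS L N (sec (secHom L σ)) (sec (secHom N ν))
      from sec_secHom (L := tmod L N) _, sec_secHom, sec_secHom]
    rfl
  have key : X.basicOpen (sec φ) = CohB1.genLocus L (secHom L σ) ⊓ CohB1.genLocus N (secHom N ν) := by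
    refine Eq.trans ?_ ((genLocus_comp_iso _ e).trans (genLocus_tensorS hL hN _ _))
    exact (AmpleEmb.genLocus_secHom_unit (sec φ)).symm.trans (congrArg (CohB1.genLocus _) (secHom_sec φ))
  have htop : X.basicOpen (sec φ) = ⊤ := Scheme.basicOpen_of_isUnit _ (hsec ▸ hu)
  have h3 := BCLib.gen_of_le_genLocus hL (DCohLib.secHom L σ) (htop.ge.trans (key.le.trans inf_le_left))
  rw [sec_secHom] at h3
  simpa only [resT, ParaFLib.res_self] using h3

end Groth.Agent.GGDescLib
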